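import Cfsg.Agent.Lib.InvChar.SporData.HN.E18.F0
import Cfsg.Agent.Lib.InvChar.SporHNGoal

/-! The assembled certificate. -/

set_option autoImplicit false
set_option maxRecDepth 100000

namespace CfsgLib.InvChar.SporHN.E18

open CfsgLib.InvChar.Coset CfsgLib.KnownA

theorem facts_ok : ∀ j < 1, cert.chkRun 128 (j * 128) (cert.just.get j) = true := by
  intro j hj
  rcases Nat.lt_or_ge j 1 with h0 | h0
  · obtain ⟨t, rfl⟩ : ∃ t, j = 0 + t := ⟨j - 0, by omega⟩
    exact cert.chkBlocks_get 1 0 chk_facts0 t (by omega)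
  omega

theorem chk_goal : CfsgLib.InvChar.SporHN.chkGoal cert 6 8 goalPath goal = true := by decide +kernel

theorem mem {G : Type*} [Group G] (s : ℕ → G) (H : Subgroup G) (hg : CosetInv.Good cert s)
    (hR : ∀ r ∈ rels, wprod s r = 1) (hS : ∀ r ∈ subs, wprod s r ∈ H) : wprod s goal ∈ H :=
  CfsgLib.InvChar.SporHN.mem_of_goal hg
    (fun r hr => CosetInv.holds_of_blocks hg hR hS 1 (by decide +kernel) facts_ok r hr) chk_goal

end CfsgLib.InvChar.SporHN.E18
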